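import Groth.Agent.GradAdjoin.Basic
/-!
The graded ring with pieces `S_{≥ n}`.
-/
set_option autoImplicit false
set_option linter.style.haveILetI false
universe u
open DirectSum Polynomial

noncomputable section

namespace Groth.Agent.NatGr

variable {R A : Type u} [CommRing R] [CommRing A] [Algebra R A] (𝒜 : ℕ → Submodule R A)
  [GradedAlgebra 𝒜]

/-- The pieces of degree at least `n`. -/
abbrev T (n : ℕ) : Submodule R A := ⨆ (m : ℕ) (_ : n ≤ m), 𝒜 m

lemma le_T {n m : ℕ} (h : n ≤ m) : 𝒜 m ≤ T 𝒜 n :=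
  le_iSup₂ (f := fun (m : ℕ) (_ : n ≤ m) => 𝒜 m) m h

lemma T_induction {n : ℕ} {motive : A → Prop} {x : A} (hx : x ∈ T 𝒜 n) (zero : motive 0)
    (add : ∀ x y, motive x → motive y → motive (x + y))
    (mem : ∀ m, n ≤ m → ∀ x ∈ 𝒜 m, motive x) : motive x :=
  Submodule.iSup_induction _ (motive := motive) hx (fun m x hx => by
    by_cases h : n ≤ m
    · rw [iSup_pos h] at hx; exact mem m h x hx
    · rw [iSup_neg h, Submodule.mem_bot] at hx; rw [hx]; exact zero) zero add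

lemma mem_T_zero (a : A) : a ∈ T 𝒜 0 := by
  classical
  rw [← sum_support_decompose 𝒜 a]
  exact Submodule.sum_mem _ fun i _ => le_T 𝒜 (Nat.zero_le i) (SetLike.coe_mem _)

lemma T_mul_le (i j : ℕ) : T 𝒜 i * T 𝒜 j ≤ T 𝒜 (i + j) := by
  refine Submodule.mul_le.2 fun x hx y hy => ?_
  refine T_induction 𝒜 (motive := fun x => x * y ∈ T 𝒜 (i + j)) hx ?_ ?_ ?_
  · rw [zero_mul]; exact zero_mem _
  · intro a b ha hb; rw [add_mul]; exact add_mem ha hb
  · intro p hp a ha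
    refine T_induction 𝒜 (motive := fun y => a * y ∈ T 𝒜 (i + j)) hy ?_ ?_ ?_
    · rw [mul_zero]; exact zero_mem _
    · intro b c hb hc; rw [mul_add]; exact add_mem hb hc
    · intro q hq b hb
      exact le_T 𝒜 (by omega) (SetLike.mul_mem_graded ha hb)

/-- Projection to a graded piece. -/
abbrev pr (n : ℕ) : A →ₗ[R] A := GradedAlgebra.proj 𝒜 n

lemma map_pr_mul_le {i j : ℕ} {P Q : Submodule R A} (hP : P ≤ T 𝒜 i) (hQ : Q ≤ T 𝒜 j) :
    (P * Q).map (pr 𝒜 (i + j)) ≤ P.map (pr 𝒜 i) * Q.map (pr 𝒜 j) := by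
  classical
  rw [Submodule.map_le_iff_le_comap]
  refine Submodule.mul_le.2 fun x hx y hy => ?_
  rw [Submodule.mem_comap]
  have key : pr 𝒜 (i + j) (x * y) = pr 𝒜 i x * pr 𝒜 j y := by
    refine T_induction 𝒜 (motive := fun x => pr 𝒜 (i + j) (x * y) = pr 𝒜 i x * pr 𝒜 j y) (hP hx) ?_ ?_ ?_
    · simp
    · intro a b ha hb; rw [add_mul, map_add, map_add, ha, hb, add_mul]
    · intro p hp a ha
      refine T_induction 𝒜 (motive := fun y => pr 𝒜 (i + j) (a * y) = pr 𝒜 i a * pr 𝒜 j y) (hQ hy) ?_ ?_ ?_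
      · simp
      · intro b c hb hc; rw [mul_add, map_add, map_add, hb, hc, mul_add]
      · intro q hq b hb
        simp only [GradedAlgebra.proj_apply]
        have hab := SetLike.mul_mem_graded (A := 𝒜) ha hb
        by_cases h : p + q = i + j
        · rw [← h, decompose_of_mem_same 𝒜 hab, show i = p by omega, show j = q by omega,
            decompose_of_mem_same 𝒜 ha, decompose_of_mem_same 𝒜 hb]
        · rw [decompose_of_mem_ne 𝒜 hab h]
          rcases eq_or_ne p i with rfl | hne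
          · rw [decompose_of_mem_ne 𝒜 hb (by omega : q ≠ j), mul_zero]
          · rw [decompose_of_mem_ne 𝒜 ha hne, zero_mul]
  rw [key]
  exact Submodule.mul_mem_mul ⟨x, hx, rfl⟩ ⟨y, hy, rfl⟩

lemma map_pr_T_le (n : ℕ) : (T 𝒜 n).map (pr 𝒜 n) ≤ 𝒜 n := by
  rintro _ ⟨x, -, rfl⟩
  rw [GradedAlgebra.proj_apply]
  exact SetLike.coe_mem _

lemma le_map_pr {n : ℕ} {P : Submodule R A} (h : 𝒜 n ≤ P) : 𝒜 n ≤ P.map (pr 𝒜 n) := fun a ha =>
  ⟨a, h ha, by rw [GradedAlgebra.proj_apply, decompose_of_mem_same 𝒜 ha]⟩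

theorem succ_eq_one_mul_iff (n₀ : ℕ) :
    (∀ n, n₀ ≤ n → T 𝒜 (n + 1) = T 𝒜 1 * T 𝒜 n) ↔ ∀ n, n₀ ≤ n → 𝒜 (n + 1) = 𝒜 1 * 𝒜 n := by
  constructor
  · intro h n hn
    refine le_antisymm ?_ (Submodule.mul_le.2 fun a ha b hb => by
      rw [add_comm n 1]; exact SetLike.mul_mem_graded ha hb)
    refine (le_map_pr 𝒜 ((le_T 𝒜 le_rfl).trans (h n hn).le)).trans ?_
    rw [add_comm n 1]
    exact (map_pr_mul_le 𝒜 le_rfl le_rfl).trans
      (mul_le_mul' (map_pr_T_le 𝒜 1) (map_pr_T_le 𝒜 n))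
  · intro h n hn
    refine le_antisymm (iSup₂_le fun m hm => ?_) (add_comm n 1 ▸ T_mul_le 𝒜 1 n)
    obtain ⟨k, rfl⟩ : ∃ k, m = k + 1 := ⟨m - 1, by omega⟩
    rw [h k (by omega)]
    exact mul_le_mul' (le_T 𝒜 le_rfl) (le_T 𝒜 (by omega))

lemma T_one_pow_le (n : ℕ) : 1 ≤ n → T 𝒜 1 ^ n ≤ T 𝒜 n := by
  intro hn
  induction n, hn using Nat.le_induction with
  | base => rw [pow_one]
  | succ k _ ih =>
    rw [pow_succ]
    exact (mul_le_mul' ih le_rfl).trans (T_mul_le 𝒜 k 1)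

lemma map_pr_pow_le (n : ℕ) : 1 ≤ n → (T 𝒜 1 ^ n).map (pr 𝒜 n) ≤ 𝒜 1 ^ n := by
  intro hn
  induction n, hn using Nat.le_induction with
  | base => rw [pow_one, pow_one]; exact map_pr_T_le 𝒜 1
  | succ k hk ih =>
    rw [pow_succ, pow_succ]
    exact (map_pr_mul_le 𝒜 (T_one_pow_le 𝒜 k hk) le_rfl).trans
      (mul_le_mul' ih (map_pr_T_le 𝒜 1))

theorem eq_one_pow_iff (n₀ : ℕ) (hn₀ : 1 ≤ n₀) :
    (∀ n, n₀ ≤ n → T 𝒜 n = T 𝒜 1 ^ n) ↔ ∀ n, n₀ ≤ n → 𝒜 n = 𝒜 1 ^ n := by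
  have hgr : ∀ n, 𝒜 1 ^ n ≤ 𝒜 n := by
    intro n
    induction n with
    | zero =>
      rw [pow_zero, Submodule.one_le]
      exact SetLike.one_mem_graded 𝒜
    | succ k ih =>
      rw [pow_succ]
      exact (mul_le_mul' ih le_rfl).trans (Submodule.mul_le.2 fun a ha b hb => SetLike.mul_mem_graded ha hb)
  constructor
  · intro h n hn
    exact le_antisymm ((le_map_pr 𝒜 ((le_T 𝒜 le_rfl).trans (h n hn).le)).trans
      (map_pr_pow_le 𝒜 n (by omega))) (hgr n)
  · intro h n hn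
    refine le_antisymm (iSup₂_le fun m hm => ?_) (T_one_pow_le 𝒜 n (by omega))
    rw [h m (by omega)]
    obtain ⟨k, rfl⟩ := Nat.exists_eq_add_of_le hm
    obtain ⟨j, rfl⟩ : ∃ j, n = j + 1 := ⟨n - 1, by omega⟩
    rw [pow_add, pow_succ, pow_succ, mul_assoc]
    refine mul_le_mul' (pow_le_pow_left₀ bot_le (le_T 𝒜 le_rfl) j) ?_
    refine (mul_le_mul' (le_T 𝒜 (le_refl 1)) ((hgr k).trans (le_T 𝒜 (Nat.zero_le k)))).trans ?_
    exact T_mul_le 𝒜 1 0

variable {B : Type u} [CommRing B] [Algebra R B] (ℬ : ℕ → Submodule R B) [GradedAlgebra ℬ]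
  (φ : B →ₐ[R] Polynomial A) (hφ : Function.Injective φ)
  (hdeg : ∀ n : ℕ, Submodule.map φ.toLinearMap (ℬ n) =
    Submodule.map ((Polynomial.monomial n : A →ₗ[A] Polynomial A).restrictScalars R) (T 𝒜 n))

include hdeg

lemma exists_of_mem {n : ℕ} {b : B} (hb : b ∈ ℬ n) : ∃ a ∈ T 𝒜 n, φ b = monomial n a := by
  have : φ b ∈ Submodule.map φ.toLinearMap (ℬ n) := ⟨b, hb, rfl⟩
  rw [hdeg] at this
  obtain ⟨a, ha, h⟩ := this
  exact ⟨a, ha, h.symm⟩

lemma exists_lift {n : ℕ} {a : A} (ha : a ∈ T 𝒜 n) : ∃ b ∈ ℬ n, φ b = monomial n a := by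
  have : monomial n a ∈ Submodule.map φ.toLinearMap (ℬ n) := by rw [hdeg]; exact ⟨a, ha, rfl⟩
  obtain ⟨b, hb, h⟩ := this
  exact ⟨b, hb, h⟩

/-- Evaluation at `X = 1`. -/
lemma eval_surjective : Function.Surjective fun b => (φ b).eval 1 := fun a => by
  obtain ⟨b, -, h⟩ := exists_lift 𝒜 ℬ φ hdeg (mem_T_zero 𝒜 a)
  exact ⟨b, by simp [h]⟩

theorem isNoetherian_of_natural [IsNoetherianRing B] : IsNoetherianRing A :=
  isNoetherianRing_of_surjective B A ((Polynomial.evalRingHom 1).comp φ.toRingHom)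
    (eval_surjective 𝒜 ℬ φ hdeg)

theorem finiteType_of_natural (h : Algebra.FiniteType (ℬ 0) B) : Algebra.FiniteType (𝒜 0) A := by
  classical
  rw [← GradAdjoin.fg_iff_finiteType] at h ⊢
  let f : B →+* A := (Polynomial.evalRingHom 1).comp φ.toRingHom
  suffices e : (HomogeneousIdeal.irrelevant 𝒜).toIdeal = (HomogeneousIdeal.irrelevant ℬ).toIdeal.map f by
    rw [e]; exact h.map f
  refine le_antisymm ?_ (Ideal.map_le_iff_le_comap.2 fun b hb => ?_)
  · intro a ha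
    have hT : a ∈ T 𝒜 1 := by
      rw [← sum_support_decompose 𝒜 a]
      refine Submodule.sum_mem _ fun i hi => ?_
      rcases Nat.eq_zero_or_pos i with rfl | h0
      · have h0 : decompose 𝒜 a 0 = 0 := Subtype.ext (by simpa using ha)
        exact absurd h0 (DFinsupp.mem_support_iff.1 hi)
      · exact le_T 𝒜 h0 (SetLike.coe_mem _)
    obtain ⟨b, hb, hba⟩ := exists_lift 𝒜 ℬ φ hdeg hT
    have : f b = a := by simp [f, hba]
    rw [← this]
    exact Ideal.mem_map_of_mem f (HomogeneousIdeal.mem_irrelevant_of_mem ℬ one_pos hb)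
  · rw [Ideal.mem_comap, ← sum_support_decompose ℬ b, map_sum]
    refine Ideal.sum_mem _ fun i hi => ?_
    rcases Nat.eq_zero_or_pos i with rfl | h0
    · have h0 : decompose ℬ b 0 = 0 := Subtype.ext (by simpa using hb)
      exact absurd h0 (DFinsupp.mem_support_iff.1 hi)
    · obtain ⟨a, ha, hba⟩ := exists_of_mem 𝒜 ℬ φ hdeg (SetLike.coe_mem (decompose ℬ b i))
      have : f (decompose ℬ b i : B) = a := by simp [f, hba]
      rw [this]
      refine T_induction 𝒜 ha (zero_mem _) (fun _ _ => add_mem) fun m hm x hx => ?_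
      exact HomogeneousIdeal.mem_irrelevant_of_mem 𝒜 (by omega) hx

include hφ

theorem finiteType_natural (h : Algebra.FiniteType (𝒜 0) A) : Algebra.FiniteType (ℬ 0) B := by
  classical
  rw [← GradAdjoin.fg_iff_finiteType] at h
  obtain ⟨S, hS⟩ := h
  obtain ⟨E, hE, hES, -⟩ := GradAdjoin.exists_components 𝒜 S
  have hEtop : Algebra.adjoin (𝒜 0) (E : Set A) = ⊤ := by
    refine GradAdjoin.adjoin_eq_top_of_span 𝒜 hE ?_
    rw [← hS]
    refine Ideal.span_le.2 fun s hs => ?_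
    have h := (hES s hs).1
    have hmem : s ∈ (HomogeneousIdeal.irrelevant 𝒜).toIdeal := hS ▸ Submodule.subset_span hs
    rwa [show GradedRing.projZeroRingHom 𝒜 s = 0 from hmem, sub_zero] at h
  choose dg hdg hedg using hE
  let G : Set B := ⋃ e : (E : Set A), ⋃ k : Fin (dg e.1 e.2 + 1), {b | φ b = monomial (k : ℕ) e.1}
  have hG : G.Finite := Set.finite_iUnion fun e => Set.finite_iUnion fun k =>
    Set.Subsingleton.finite fun x hx y hy => hφ (hx.trans hy.symm)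
  refine ⟨⟨hG.toFinset, ?_⟩⟩
  rw [hG.coe_toFinset]
  let L := Algebra.adjoin (ℬ 0) G
  let Good : A → Prop := fun a => ∀ m k : ℕ, k ≤ m → ∃ b ∈ L, φ b = monomial k (decompose 𝒜 a m : A)
  have h0 : Good 0 := fun m k _ => ⟨0, zero_mem _, by simp⟩
  have hadd : ∀ a a', Good a → Good a' → Good (a + a') := fun a a' ha ha' m k hk => by
    obtain ⟨b, hb, e⟩ := ha m k hk
    obtain ⟨b', hb', e'⟩ := ha' m k hk
    exact ⟨b + b', add_mem hb hb', by simp [e, e']⟩
  have hhom : ∀ {m : ℕ} {a : A}, a ∈ 𝒜 m → (∀ k ≤ m, ∃ b ∈ L, φ b = monomial k a) → Good a := by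
    intro m a ha h i k hk
    by_cases him : m = i
    · subst him; rw [decompose_of_mem_same 𝒜 ha]; exact h k hk
    · exact ⟨0, zero_mem _, by rw [decompose_of_mem_ne 𝒜 ha him]; simp⟩
  have hmul : ∀ a a', Good a → Good a' → Good (a * a') := by
    intro a a' ha ha'
    rw [← sum_support_decompose 𝒜 a, ← sum_support_decompose 𝒜 a', Finset.sum_mul_sum]
    refine Finset.sum_induction _ Good hadd h0 fun i _ => Finset.sum_induction _ Good hadd h0 fun j _ => ?_
    refine hhom (SetLike.mul_mem_graded (SetLike.coe_mem _) (SetLike.coe_mem _)) fun k hk => ?_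
    obtain ⟨b, hb, e⟩ := ha i (min k i) (min_le_right _ _)
    obtain ⟨b', hb', e'⟩ := ha' j (k - min k i) (by omega)
    refine ⟨b * b', mul_mem hb hb', ?_⟩
    rw [map_mul, e, e', monomial_mul_monomial, show min k i + (k - min k i) = k by omega]
  have hall : ∀ a, Good a := by
    intro a
    have ha : a ∈ Algebra.adjoin (𝒜 0) (E : Set A) := hEtop ▸ trivial
    induction ha using Algebra.adjoin_induction with
    | mem e he =>
      refine hhom (hedg e he) fun k hk => ?_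
      obtain ⟨b, -, hbe⟩ := exists_lift 𝒜 ℬ φ hdeg (le_T 𝒜 hk (hedg e he))
      exact ⟨b, Algebra.subset_adjoin (Set.mem_iUnion.2 ⟨⟨e, he⟩, Set.mem_iUnion.2 ⟨⟨k, Nat.lt_succ_of_le hk⟩, hbe⟩⟩), hbe⟩
    | algebraMap r =>
      refine hhom (m := 0) r.2 fun k hk => ?_
      obtain rfl : k = 0 := by omega
      obtain ⟨b, hb, hbe⟩ := exists_lift 𝒜 ℬ φ hdeg (mem_T_zero 𝒜 (r : A))
      exact ⟨b, GradAdjoin.zero_mem_adjoin ℬ G hb, hbe⟩
    | add a a' _ _ ha ha' => exact hadd a a' ha ha'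
    | mul a a' _ _ ha ha' => exact hmul a a' ha ha'
  rw [eq_top_iff]
  intro b _
  rw [← sum_support_decompose ℬ b]
  refine sum_mem fun n _ => ?_
  obtain ⟨a, ha, hba⟩ := exists_of_mem 𝒜 ℬ φ hdeg (SetLike.coe_mem (decompose ℬ b n))
  obtain ⟨b', hb', e⟩ : ∃ b' ∈ L, φ b' = monomial n a := by
    refine T_induction 𝒜 (motive := fun a => ∃ b' ∈ L, φ b' = monomial n a) ha ⟨0, zero_mem _, by simp⟩ ?_ ?_
    · rintro x y ⟨bx, hx, ex⟩ ⟨bY, hy, ey⟩
      exact ⟨bx + bY, add_mem hx hy, by simp [ex, ey]⟩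
    · intro m hm x hx
      have := hall x m n hm
      rwa [decompose_of_mem_same 𝒜 hx] at this
  rwa [hφ (e.trans hba.symm)] at hb'

theorem isNoetherian_natural [IsNoetherianRing A] : IsNoetherianRing B := by
  haveI := finiteType_natural 𝒜 ℬ φ hφ hdeg ((GradAdjoin.fg_iff_finiteType 𝒜).1 (IsNoetherian.noetherian _))
  let f : ℬ 0 →+* A := ((Polynomial.evalRingHom 1).comp φ.toRingHom).comp (algebraMap (ℬ 0) B)
  have hf : Function.Bijective f := by
    constructor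
    · intro x y hxy
      obtain ⟨a, -, ha⟩ := exists_of_mem 𝒜 ℬ φ hdeg x.2
      obtain ⟨a', -, ha'⟩ := exists_of_mem 𝒜 ℬ φ hdeg y.2
      have : a = a' := by simpa [f, ha, ha'] using hxy
      exact Subtype.ext (hφ (by rw [ha, ha', this]))
    · intro a
      obtain ⟨b, hb, h⟩ := exists_lift 𝒜 ℬ φ hdeg (mem_T_zero 𝒜 a)
      exact ⟨⟨b, hb⟩, by simp [f, h]⟩
  haveI : IsNoetherianRing (ℬ 0) := isNoetherianRing_of_ringEquiv A (RingEquiv.ofBijective f hf).symm
  exact Algebra.FiniteType.isNoetherianRing (ℬ 0) B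

omit hφ hdeg in
lemma mul_map_monomial (P Q : Submodule R A) (i j : ℕ) :
      P.map ((monomial i : A →ₗ[A] A[X]).restrictScalars R) * Q.map ((monomial j : A →ₗ[A] A[X]).restrictScalars R) =
      (P * Q).map ((monomial (i + j) : A →ₗ[A] A[X]).restrictScalars R) := by
    refine le_antisymm ?_ ?_
    · refine Submodule.mul_le.2 ?_
      rintro _ ⟨a, ha, rfl⟩ _ ⟨b, hb, rfl⟩
      exact ⟨a * b, Submodule.mul_mem_mul ha hb, (monomial_mul_monomial i j a b).symm⟩
    · rw [Submodule.map_le_iff_le_comap]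
      refine Submodule.mul_le.2 fun a ha b hb => ?_
      rw [Submodule.mem_comap, LinearMap.restrictScalars_apply, ← monomial_mul_monomial i j a b]
      exact Submodule.mul_mem_mul ⟨a, ha, rfl⟩ ⟨b, hb, rfl⟩


omit hφ in
lemma map_one_pow (n : ℕ) (hn : 1 ≤ n) : (ℬ 1 ^ n).map φ.toLinearMap =
    (T 𝒜 1 ^ n).map ((Polynomial.monomial n : A →ₗ[A] Polynomial A).restrictScalars R) := by
  induction n, hn using Nat.le_induction with
  | base => rw [pow_one, pow_one, hdeg]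
  | succ k _ ih =>
    rw [pow_succ, pow_succ, Submodule.map_mul, ih, hdeg]
    exact mul_map_monomial _ _ _ _

end Groth.Agent.NatGr
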